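import Groth.Agent.RegStrict13.Local
import Groth.Agent.BlowUpKoszul.ChartLocal
import Groth.Agent.CAlgH.RegularPoint

/-!
# The strict transform in a chart
-/

set_option autoImplicit false
set_option synthInstance.maxHeartbeats 100000
set_option maxHeartbeats 800000
set_option backward.isDefEq.respectTransparency false

universe u

open MvPolynomial IsLocalRing RingTheory.Sequence
open Groth.Agent.CAlgH Groth.Agent.CAlgH.KoszulRegular Groth.Agent.BlowUpKoszul

namespace Groth.Agent.RegStrict13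

variable {A : Type u} [CommRing A] {I : Ideal A}

/-- The chart modulo `a`, with the images of the generators. -/
theorem exists_chart_quotient' {m : ℕ} (F : Fin (m + 1) → A) (k : Fin (m + 1)) (hF : KReg F)
    (hI : I = Ideal.span (Set.range F)) :
    ∃ (χ : (CR I (F k)) →+* MvPolynomial (Fin m) (A ⧸ I)) (T : Fin m → CR I (F k)), Function.Surjective χ ∧
      RingHom.ker χ = Ideal.span {algebraMap A (CR I (F k)) (F k)} ∧
      (∀ j, algebraMap A (CR I (F k)) (F k) * T j = algebraMap A (CR I (F k)) (F (k.succAbove j))) ∧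
      (∀ j, χ (T j) = X j) ∧ ∀ x, χ (algebraMap A (CR I (F k)) x) = C (Ideal.Quotient.mk I x) := by
  let φ : MvPolynomial (Fin m) A →ₐ[A] (CR I (F k)) :=
    (aeval (R := A) (ratio F k)).codRestrict _ fun r => by
      rw [← range_aeval_ratio F k hI]; exact ⟨r, rfl⟩
  have hφ : Function.Surjective φ := fun ⟨z, hz⟩ => by
    rw [← range_aeval_ratio F k hI] at hz
    obtain ⟨r, hr⟩ := hz
    exact ⟨r, Subtype.ext hr⟩
  have hker : RingHom.ker φ.toRingHom = Ideal.span (Set.range (rel F k)) := by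
    rw [← ker_aeval_ratio F k hF]
    ext r
    simp [φ, RingHom.mem_ker, Subtype.ext_iff]
  let g : MvPolynomial (Fin m) A →+* MvPolynomial (Fin m) (A ⧸ I) := MvPolynomial.map (Ideal.Quotient.mk I)
  have hfI : ∀ i, Ideal.Quotient.mk I (F i) = 0 := fun i =>
    Ideal.Quotient.eq_zero_iff_mem.2 (hI ▸ Ideal.subset_span ⟨i, rfl⟩)
  have hg : RingHom.ker φ.toRingHom ≤ RingHom.ker g := by
    rw [hker, Ideal.span_le]
    rintro _ ⟨j, rfl⟩
    simp [g, rel, hfI]
  let χ := φ.toRingHom.liftOfSurjective hφ ⟨g, hg⟩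
  have hχ : ∀ p, χ (φ p) = g p := fun p => φ.toRingHom.liftOfRightInverse_comp_apply _ _ ⟨g, hg⟩ p
  have hT : ∀ j, algebraMap A (CR I (F k)) (F k) * φ (X j) = algebraMap A (CR I (F k)) (F (k.succAbove j)) := fun j => by
    refine Subtype.ext ?_
    show algebraMap A _ (F k) * (φ (X j) : Localization.Away (F k)) = algebraMap A _ (F (k.succAbove j))
    rw [← algebraMap_mul_ratio]
    simp [φ]
  refine ⟨χ, fun j => φ (X j), fun z => ?_, le_antisymm (fun b hb => ?_) ?_, hT, fun j => ?_, fun x => ?_⟩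
  · obtain ⟨p, hp⟩ := MvPolynomial.map_surjective (σ := Fin m) _ Ideal.Quotient.mk_surjective z
    exact ⟨φ p, (hχ p).trans hp⟩
  · obtain ⟨p, rfl⟩ := hφ b
    have hp : p ∈ RingHom.ker g := by rw [RingHom.mem_ker, ← hχ]; exact hb
    rw [show RingHom.ker g = _ from MvPolynomial.ker_map _, Ideal.mk_ker, hI, Ideal.map_span] at hp
    have h := Ideal.mem_map_of_mem φ.toRingHom hp
    rw [Ideal.map_span] at h
    refine Ideal.span_le.2 ?_ h
    rintro _ ⟨_, ⟨_, ⟨i, rfl⟩, rfl⟩, rfl⟩
    rw [SetLike.mem_coe, AlgHom.toRingHom_eq_coe, RingHom.coe_coe, ← algebraMap_eq, AlgHom.commutes,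
      Ideal.mem_span_singleton']
    rcases Fin.eq_self_or_eq_succAbove k i with rfl | ⟨j, rfl⟩
    · exact ⟨1, one_mul _⟩
    · exact ⟨φ (X j), by rw [mul_comm, hT]⟩
  · rw [Ideal.span_singleton_le_iff_mem, RingHom.mem_ker, ← φ.commutes, hχ]
    simp [g, hfI]
  · rw [hχ]; simp [g]
  · rw [← φ.commutes, hχ]; simp [g]

theorem kreg_X_castAdd {R : Type u} [CommRing R] (a b : ℕ) :
    KReg fun i : Fin a => (X (Fin.castAdd b i) : MvPolynomial (Fin (a + b)) R) := by
  have h := RegularPoint.isWeaklyRegular_X R (a + b)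
  have e : List.ofFn (fun i : Fin (a + b) => (X i : MvPolynomial (Fin (a + b)) R)) =
      List.ofFn (fun i : Fin a => (X (Fin.castAdd b i) : MvPolynomial (Fin (a + b)) R)) ++
        List.ofFn (fun i : Fin b => (X (Fin.natAdd a i) : MvPolynomial (Fin (a + b)) R)) := by
    rw [← List.ofFn_fin_append]
    exact congrArg List.ofFn (funext fun i => Fin.addCases (fun i => by simp) (fun i => by simp) i)
  rw [e, isWeaklyRegular_append_iff] at h
  exact KoszulH1.kreg_of_isWeaklyRegular h.1

theorem kreg_vars_C {R : Type u} [CommRing R] {a b c : ℕ} {g : Fin c → R} (hg : KReg g) :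
    KReg (Fin.append (fun i : Fin a => (X (Fin.castAdd b i) : MvPolynomial (Fin (a + b)) R)) fun i => C (g i)) := by
  let J : Ideal R := Ideal.span (Set.range g)
  let ρ : MvPolynomial (Fin (a + b)) R →+* MvPolynomial (Fin (a + b)) (R ⧸ J) := MvPolynomial.map (Ideal.Quotient.mk J)
  have hρ : RingHom.ker ρ = Ideal.span (Set.range fun i => (C (g i) : MvPolynomial (Fin (a + b)) R)) := by
    rw [show RingHom.ker ρ = _ from MvPolynomial.ker_map _, Ideal.mk_ker, Ideal.map_span, ← Set.range_comp]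
    rfl
  refine FlatMorKoszul.kreg_append (φ := ρ) (MvPolynomial.map_surjective _ Ideal.Quotient.mk_surjective) hρ hg.map ?_
  simpa [ρ] using kreg_X_castAdd (R := R ⧸ J) a b

variable [IsNoetherianRing A]

theorem isRegularIdeal_chart (J : Ideal A) {a b c : ℕ} (F : Fin (a + b + 1) → A) (g : Fin c → A) (k : Fin (b + 1))
    (hF : KReg F) (hI : I = Ideal.span (Set.range F))
    (hv : ∀ i : Fin a, F (Fin.castAdd (b + 1) i) ∈ J) (hg : ∀ i, g i ∈ J)
    (hgr : KReg fun i => Ideal.Quotient.mk I (g i))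
    {B : Type u} [CommRing B] (φ : A →+* B) (hφJ : RingHom.ker φ = J)
    {I' : Ideal B} (ψ : CR I (F (Fin.natAdd a k)) →+* CR I' (φ (F (Fin.natAdd a k))))
    (hψ : ∀ x, ψ (algebraMap A _ x) = algebraMap B _ (φ x))
    (q : Ideal (CR I (F (Fin.natAdd a k)))) [q.IsPrime]
    (hq : RingHom.ker ψ ≤ q) (he : algebraMap A _ (F (Fin.natAdd a k)) ∈ q)
    (hJloc : ∀ x ∈ J, ∃ t : A, t ∉ q.comap (algebraMap A _) ∧
      t * x ∈ Ideal.span (Set.range (fun i : Fin a => F (Fin.castAdd (b + 1) i)) ∪ Set.range g)) :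
    CInt.IsRegularIdeal ((RingHom.ker ψ).map (algebraMap _ (Localization.AtPrime q))) := by
  obtain ⟨χ, T, hχs, hχk, hT, hχT, hχC⟩ := exists_chart_quotient' F (Fin.natAdd a k) hF hI
  have hsucc : ∀ i : Fin a, Fin.succAbove (n := a + b) (Fin.natAdd a k) (Fin.castAdd b i) = Fin.castAdd (b + 1) i := fun i => by
    rw [Fin.succAbove_of_castSucc_lt _ _ (by
      simp only [Fin.lt_def, Fin.val_castSucc, Fin.val_castAdd, Fin.val_natAdd]; omega)]
    exact Fin.ext rfl
  let W : Fin (a + c) → (CR I (F (Fin.natAdd a k))) := Fin.append (fun i => T (Fin.castAdd b i)) (fun i => algebraMap A (CR I (F (Fin.natAdd a k))) (g i))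
  let e := algebraMap A (CR I (F (Fin.natAdd a k))) (F (Fin.natAdd a k))
  have hWk : KReg (fun i => χ (W i)) := by
    have h2 := kreg_vars_C (a := a) (b := b) hgr
    convert h2 using 1
    funext i
    refine Fin.addCases (fun i => ?_) (fun i => ?_) i
    · simp [W, hχT]
    · simp [W, hχC]
  have hek : KReg (fun _ : Fin 1 => e) := by
    refine KoszulH1.kreg_of_isWeaklyRegular ?_
    rw [List.ofFn_succ, List.ofFn_zero, isWeaklyRegular_cons_iff]
    refine ⟨fun x y h => sub_eq_zero.1 (isSMulRegular_chart (I := I) (F (Fin.natAdd a k)) (x - y) ?_),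
      IsWeaklyRegular.nil _ _⟩
    rw [mul_sub]; exact sub_eq_zero.2 h
  have hWe : KReg (Fin.append W (fun _ : Fin 1 => e)) :=
    FlatMorKoszul.kreg_append hχs (by rw [hχk, Set.range_const]) hek hWk
  let L := Localization.AtPrime q
  let al := algebraMap (CR I (F (Fin.natAdd a k))) L
  have hTq : ∀ i : Fin a, T (Fin.castAdd b i) ∈ RingHom.ker ψ := fun i => by
    refine (RingHom.mem_ker).2 (isSMulRegular_chart (I := I') (φ (F (Fin.natAdd a k))) _ ?_)
    rw [← hψ, ← map_mul, hT, hψ, hsucc, show φ (F (Fin.castAdd (b + 1) i)) = 0 from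
      (RingHom.mem_ker).1 (hφJ ▸ hv i), map_zero]
  have hgq : ∀ i, algebraMap A (CR I (F (Fin.natAdd a k))) (g i) ∈ RingHom.ker ψ := fun i => by
    rw [RingHom.mem_ker, hψ, show φ (g i) = 0 from (RingHom.mem_ker).1 (hφJ ▸ hg i), map_zero]
  have hWker : ∀ i, W i ∈ RingHom.ker ψ := fun i =>
    Fin.addCases (fun i => by simpa [W] using hTq i) (fun i => by simpa [W] using hgq i) i
  have hmem : ∀ z ∈ q, al z ∈ maximalIdeal L := fun z hz =>
    (IsLocalization.AtPrime.to_map_mem_maximal_iff L q z).2 hz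
  have hnoeth : IsNoetherianRing (CR I (F (Fin.natAdd a k))) := BlowUpKoszul.isNoetherianRing_chart F (Fin.natAdd a k) hI
  have : IsNoetherianRing L := IsLocalization.isNoetherianRing q.primeCompl L hnoeth
  have hall := KoszulH1.isWeaklyRegular_of_kreg (f := fun i => al (Fin.append W (fun _ : Fin 1 => e) i))
    (fun i => maximalIdeal_le_jacobson _ (hmem _ (Fin.addCases (fun i => by simpa using hq (hWker i))
      (fun i => by simpa [e] using he) i))) hWe.map
  have hlist : (List.ofFn fun i => al (Fin.append W (fun _ : Fin 1 => e) i)) =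
      (List.ofFn fun i => al (W i)) ++ [al e] := by
    rw [show (fun i => al (Fin.append W (fun _ : Fin 1 => e) i)) =
      Fin.append (fun i => al (W i)) (fun _ : Fin 1 => al e) from
        funext fun i => Fin.addCases (fun i => by simp) (fun i => by simp) i, List.ofFn_fin_append]
    simp
  rw [hlist, isWeaklyRegular_append_iff] at hall
  let Q := Ideal.ofList (List.ofFn fun i => al (W i))
  have hsat : ∀ y : L, al e * y ∈ Q → y ∈ Q := by
    intro y hy
    have hreg := (isWeaklyRegular_singleton_iff _ _).1 hall.2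
    have hQ : Q • (⊤ : Submodule L L) = Q := by rw [smul_eq_mul, Ideal.mul_top]
    have h0 := hreg.right_eq_zero_of_smul (x := Submodule.Quotient.mk y) (by
      rw [← Submodule.Quotient.mk_smul, Submodule.Quotient.mk_eq_zero, smul_eq_mul]
      exact hQ.ge hy)
    rw [Submodule.Quotient.mk_eq_zero] at h0
    exact hQ.le h0
  have hWQ : ∀ i, al (W i) ∈ Q := fun i => Ideal.subset_span (List.mem_ofFn.2 ⟨i, rfl⟩)
  have hJQ : ∀ x ∈ J, al (algebraMap A (CR I (F (Fin.natAdd a k))) x) ∈ Q := by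
    intro x hx
    obtain ⟨t, ht, htx⟩ := hJloc x hx
    have hle : Ideal.span (Set.range (fun i : Fin a => F (Fin.castAdd (b + 1) i)) ∪ Set.range g) ≤
        Q.comap (al.comp (algebraMap A (CR I (F (Fin.natAdd a k))))) := Ideal.span_le.2 (by
      rintro _ (⟨i, rfl⟩ | ⟨i, rfl⟩)
      · show al (algebraMap A (CR I (F (Fin.natAdd a k))) (F (Fin.castAdd (b + 1) i))) ∈ Q
        rw [← hsucc, ← hT, map_mul]
        exact Ideal.mul_mem_left _ _ (by simpa [W] using hWQ (Fin.castAdd c i))
      · show al (algebraMap A (CR I (F (Fin.natAdd a k))) (g i)) ∈ Q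
        simpa [W] using hWQ (Fin.natAdd a i))
    have h1 : al (algebraMap A (CR I (F (Fin.natAdd a k))) (t * x)) ∈ Q := hle htx
    rw [map_mul, map_mul] at h1
    exact (Ideal.unit_mul_mem_iff_mem _ (IsLocalization.map_units L (⟨_, ht⟩ : q.primeCompl))).1 h1
  refine ⟨List.ofFn fun i => al (W i), RegImmLocal.isRegular_of_mem_maximal hall.1 fun r hr => ?_,
    le_antisymm (Ideal.span_le.2 fun r hr => ?_) (Ideal.map_le_iff_le_comap.2 fun z hz => ?_)⟩
  · obtain ⟨i, rfl⟩ := List.mem_ofFn.1 hr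
    exact hmem _ (hq (hWker i))
  · obtain ⟨i, rfl⟩ := List.mem_ofFn.1 hr
    exact Ideal.mem_map_of_mem _ (hWker i)
  · rw [Ideal.mem_comap]
    have := isLocalization_chart (I := I) (F (Fin.natAdd a k))
    obtain ⟨n, x, hnx⟩ := IsLocalization.Away.surj (F (Fin.natAdd a k)) (z : Localization.Away (F (Fin.natAdd a k)))
    have hzx : z * e ^ n = algebraMap A (CR I (F (Fin.natAdd a k))) x := Subtype.ext (by
      show (z : Localization.Away (F (Fin.natAdd a k))) * ((e ^ n : (CR I (F (Fin.natAdd a k)))) : Localization.Away (F (Fin.natAdd a k))) = algebraMap A _ x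
      rw [SubmonoidClass.coe_pow]
      exact hnx)
    have h1 : algebraMap B (CR I' (φ (F (Fin.natAdd a k)))) (φ x) = 0 := by
      rw [← hψ, ← hzx, map_mul, show ψ z = 0 from hz, zero_mul]
    obtain ⟨⟨_, N, rfl⟩, hN⟩ := (IsLocalization.map_eq_zero_iff (Submonoid.powers (φ (F (Fin.natAdd a k))))
      (Localization.Away (φ (F (Fin.natAdd a k)))) (φ x)).1 (congrArg Subtype.val h1)
    have hJN : F (Fin.natAdd a k) ^ N * x ∈ J := by
      rw [← hφJ, RingHom.mem_ker, map_mul, map_pow]
      exact hN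
    have h2 := hJQ _ hJN
    rw [map_mul, map_pow, ← hzx, map_mul, map_pow, map_mul, map_pow] at h2
    change al e ^ N * (al z * al e ^ n) ∈ Q at h2
    have h3 : al e ^ (N + n) * al z ∈ Q := by rwa [pow_add, mul_assoc, mul_comm (al e ^ n)]
    clear h2 hN hJN
    revert h3
    generalize N + n = M
    intro h3
    induction M with
    | zero => rwa [pow_zero, one_mul] at h3
    | succ M ih => exact ih (hsat _ (by rwa [← mul_assoc, ← pow_succ']))

end Groth.Agent.RegStrict13
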