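import Groth.Agent.SDiv28.ClosedMap
import Groth.Agent.SDiv28.FibreCartier
import Groth.Agent.BlowUpLib.Proper
import Groth.Agent.CAlgH.RegImmLocal

/-!
# Stalks of the strict transform in a chart
-/

set_option autoImplicit false
set_option maxHeartbeats 800000
set_option backward.isDefEq.respectTransparency false

universe u

open CategoryTheory Limits AlgebraicGeometry TopologicalSpace Opposite
open Groth.Agent.BlowUpLib Groth.Agent.SDiv28

namespace Groth.Agent.RegStrict13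

theorem app_eq_zero_iff {X Y : Scheme.{u}} (f : Y ⟶ X) (U : X.Opens) (x : Γ(U.toScheme, ⊤)) :
    f.app U (U.topIso.hom x) = 0 ↔ (f ∣_ U).appTop x = 0 := by
  have key : ∀ (W : X.Opens) (e : U.ι ''ᵁ ⊤ = W) (y : Γ(X, U.ι ''ᵁ ⊤)),
      f.app W (X.presheaf.map (eqToHom e.symm).op y) = 0 ↔ f.app (U.ι ''ᵁ ⊤) y = 0 := by
    rintro W rfl y
    simp
  refine (key U U.ι_image_top x).trans ?_
  rw [morphismRestrict_appTop, CommRingCat.comp_apply]
  exact ((map_eq_zero_iff _ (ConcreteCategory.bijective_of_isIso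
    (Y.presheaf.map (eqToHom (image_morphismRestrict_preimage f U ⊤)).op)).1)).symm

variable {X Y X' Y' : Scheme.{u}}

/-- The kernel at a stalk of the map of blow-ups is the localised kernel of the map of charts. -/
theorem chart_stalk {I : X.IdealSheafData} (f : Y ⟶ X) [IsClosedImmersion f]
    {b : X' ⟶ X} (hb : BlowUp.IsBlowUp b I) {b' : Y' ⟶ Y} (hb' : BlowUp.IsBlowUp b' (I.comap f))
    {f' : Y' ⟶ X'} [IsClosedImmersion f'] (hf' : f' ≫ b = b' ≫ f) (U : X.affineOpens) (y : Y')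
    (hy : b (f' y) ∈ U.1) (a : Γ(X, U.1)) (ha : a ∈ I.ideal U) (hmem : f' y ∈ locus I b U a) :
    ∃ (ψ : BlowUp.affineAlgebra Γ(X, U.1) (I.ideal U) a →+*
        BlowUp.affineAlgebra Γ(Y, f ⁻¹ᵁ U.1) ((I.comap f).ideal ⟨f ⁻¹ᵁ U.1, U.2.preimage f⟩) ((f.appLE U.1 (f ⁻¹ᵁ U.1) le_rfl).hom a)),
      (∀ x, ψ (algebraMap _ _ x) = algebraMap _ _ ((f.appLE U.1 (f ⁻¹ᵁ U.1) le_rfl).hom x)) ∧
      ∃ (q : Ideal ↥(BlowUp.affineAlgebra Γ(X, U.1) (I.ideal U) a)) (_ : q.IsPrime),
        RingHom.ker ψ ≤ q ∧ q.comap (algebraMap _ _) = (U.2.primeIdealOf ⟨b (f' y), hy⟩).asIdeal ∧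
        ∃ E : Localization.AtPrime q ≃+* X'.presheaf.stalk (f' y),
          ((RingHom.ker ψ).map (algebraMap _ (Localization.AtPrime q))).map E.toRingHom =
            RingHom.ker (f'.stalkMap y).hom := by
  have hgood : BlowUp.IsEffCartierIdeal (I.comap (b' ≫ f)) := by
    rw [Scheme.IdealSheafData.comap_comp]; exact hb'.1
  set V := locus I b U a
  have hU' : IsAffineOpen (f ⁻¹ᵁ U.1) := U.2.preimage f
  set φ := (f.appLE U.1 (f ⁻¹ᵁ U.1) le_rfl).hom
  have hφ : Function.Surjective φ := by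
    simpa [φ, Scheme.Hom.appLE] using Scheme.Hom.app_surjective f U.1 U.2
  have hJ : (I.comap f).ideal ⟨f ⁻¹ᵁ U.1, hU'⟩ = (I.ideal U).map φ :=
    ProjLib.comap_ideal_eq I f U ⟨f ⁻¹ᵁ U.1, hU'⟩ le_rfl
  have ha' : φ a ∈ (I.comap f).ideal ⟨f ⁻¹ᵁ U.1, hU'⟩ := hJ.ge (Ideal.mem_map_of_mem _ ha)
  obtain ⟨e, he⟩ := exists_locus_iso hb U ha
  obtain ⟨e', he'⟩ := exists_locus_iso hb' ⟨f ⁻¹ᵁ U.1, hU'⟩ ha'
  obtain ⟨ψ, -, hψa⟩ := exists_surjective_map φ hφ (I.ideal U) a hJ
  have heq : f' ⁻¹ᵁ V = locus (I.comap f) b' ⟨f ⁻¹ᵁ U.1, hU'⟩ (φ a) := by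
    rw [preimage_locus ha b hb.1 f' (by rw [hf']; exact hgood), hf']
    exact (locus_comap f U hU' a b').symm
  let i := Y'.isoOfEq heq
  let k := Spec.map (CommRingCat.ofHom ψ)
  have hk : k ≫ chartMap I U a = chartMap (I.comap f) ⟨f ⁻¹ᵁ U.1, hU'⟩ (φ a) ≫ f := by
    rw [chartMap, chartMap, Category.assoc, ← IsAffineOpen.SpecMap_appLE_fromSpec f U.2 hU' le_rfl,
      ← Category.assoc, ← Category.assoc, ← Spec.map_comp, ← Spec.map_comp]
    congr 2
    ext r
    exact congrArg Subtype.val (hψa r)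
  have hfac : f' ∣_ V = i.hom ≫ e'.hom ≫ k ≫ e.inv := by
    rw [← cancel_mono V.ι, morphismRestrict_ι]
    have hl : ((f' ⁻¹ᵁ V).ι ≫ f') ≫ b = (f' ⁻¹ᵁ V).ι ≫ b' ≫ f := by rw [Category.assoc, hf']
    refine hom_ext hb ?_ ?_
    · rw [hl, Scheme.IdealSheafData.comap_comp]
      exact FlatMor12.BlowUpDisjoint.isEffCartierIdeal_comap _ hgood _
    · have he2 : e.inv ≫ V.ι ≫ b = chartMap I U a := by rw [← he, Iso.inv_hom_id_assoc]
      rw [hl]
      simp only [Category.assoc, he2]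
      rw [hk, reassoc_of% he', ← Category.assoc i.hom]
      congr 1
      simp [i]
  have hV : IsAffineOpen V := by
    have : IsAffine V.toScheme := IsAffine.of_isIso e.hom
    exact this
  let C := BlowUp.affineAlgebra Γ(X, U.1) (I.ideal U) a
  let αh : CommRingCat.of C ⟶ Γ(X', V) :=
    (Scheme.ΓSpecIso (CommRingCat.of C)).inv ≫ e.hom.appTop ≫ V.topIso.hom
  let α : C ≃+* Γ(X', V) := (asIso αh).commRingCatIsoToRingEquiv
  have hker : ∀ z, f'.app V (α z) = 0 ↔ ψ z = 0 := by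
    intro z
    show f'.app V (V.topIso.hom (e.hom.appTop ((Scheme.ΓSpecIso (CommRingCat.of C)).inv z))) = 0 ↔ _
    rw [app_eq_zero_iff, hfac]
    simp only [Scheme.Hom.comp_appTop, CommRingCat.comp_apply]
    rw [show e.inv.appTop (e.hom.appTop ((Scheme.ΓSpecIso (CommRingCat.of C)).inv z)) =
      (Scheme.ΓSpecIso (CommRingCat.of C)).inv z by
      rw [← CommRingCat.comp_apply, ← Scheme.Hom.comp_appTop, e.inv_hom_id]; rfl]
    rw [map_eq_zero_iff _ (ConcreteCategory.bijective_of_isIso i.hom.appTop).1,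
      map_eq_zero_iff _ (ConcreteCategory.bijective_of_isIso e'.hom.appTop).1,
      show k.appTop ((Scheme.ΓSpecIso (CommRingCat.of C)).inv z) = (Scheme.ΓSpecIso (CommRingCat.of _)).inv (ψ z) from
        (ConcreteCategory.congr_hom (Scheme.ΓSpecIso_inv_naturality (CommRingCat.ofHom ψ)) z).symm,
      map_eq_zero_iff _ (ConcreteCategory.bijective_of_isIso (Scheme.ΓSpecIso (CommRingCat.of _)).inv).1]
  have hUV : V ≤ b ⁻¹ᵁ U.1 := locus_le b U a
  have hα : ∀ x, α (algebraMap _ C x) = b.appLE U.1 V hUV x := by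
    intro x
    show V.topIso.hom (e.hom.appTop ((Scheme.ΓSpecIso (CommRingCat.of C)).inv (algebraMap _ C x))) = _
    have e0 : (⊤ : (chart I U a).Opens) ≤ chartMap I U a ⁻¹ᵁ U.1 := fun z _ => by
      show U.2.fromSpec _ ∈ U.1
      rw [← SetLike.mem_coe, ← U.2.range_fromSpec]
      exact ⟨_, rfl⟩
    have h1 : (chartMap I U a).appLE U.1 ⊤ e0 ≫ e.hom.appTop = b.appLE U.1 V hUV ≫ V.topIso.inv := by
      have h2 : ∀ (g : V.toScheme ⟶ X), g = V.ι ≫ b → ∀ h, g.appLE U.1 ⊤ h = b.appLE U.1 V hUV ≫ V.topIso.inv := by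
        rintro g rfl h
        rw [← Scheme.Hom.appLE_comp_appLE V.ι b U.1 V ⊤ hUV (by simp)]
        congr 1
        simp [Scheme.Hom.appLE, Scheme.Opens.topIso]
        exact (X'.presheaf.map_comp _ _).symm
      have h3 := h2 _ he (fun z _ => e0 (trivial : e.hom z ∈ (⊤ : (chart I U a).Opens)))
      rw [← Scheme.Hom.appLE_comp_appLE e.hom (chartMap I U a) U.1 ⊤ ⊤ e0 le_top] at h3
      rwa [show e.hom.appLE ⊤ ⊤ le_top = e.hom.appTop from e.hom.appLE_eq_app] at h3
    rw [chartMap_appLE] at h1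
    have h4 := ConcreteCategory.congr_hom h1 x
    simp only [CommRingCat.comp_apply] at h4
    refine (congrArg V.topIso.hom h4).trans ?_
    rw [← CommRingCat.comp_apply, V.topIso.inv_hom_id]
    rfl
  let Q := (hV.primeIdealOf ⟨f' y, hmem⟩).asIdeal
  let q := Q.comap α.toRingHom
  have : q.IsPrime := Ideal.IsPrime.comap _
  let _ : Algebra Γ(X', V) (X'.presheaf.stalk (f' y)) := X'.presheaf.algebra_section_stalk ⟨f' y, hmem⟩
  have := hV.isLocalization_stalk ⟨f' y, hmem⟩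
  let _ : Algebra C (X'.presheaf.stalk (f' y)) :=
    ((algebraMap Γ(X', V) (X'.presheaf.stalk (f' y))).comp α.toRingHom).toAlgebra
  have hloc : IsLocalization.AtPrime (X'.presheaf.stalk (f' y)) q := by
    refine ⟨fun z => ?_, fun z => ?_, fun {z w} h => ?_⟩
    · exact IsLocalization.map_units (X'.presheaf.stalk (f' y)) (⟨α z, z.2⟩ : Q.primeCompl)
    · obtain ⟨⟨n, d⟩, h⟩ := IsLocalization.surj Q.primeCompl z
      refine ⟨⟨α.symm n, ⟨α.symm d, fun h' => d.2 ?_⟩⟩, ?_⟩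
      · exact (α.apply_symm_apply (d : Γ(X', V))) ▸ (show α (α.symm (d : Γ(X', V))) ∈ Q from h')
      · show z * algebraMap Γ(X', V) _ (α (α.symm (d : Γ(X', V)))) = algebraMap Γ(X', V) _ (α (α.symm n))
        rw [α.apply_symm_apply, α.apply_symm_apply]; exact h
    · obtain ⟨c, hc⟩ := IsLocalization.exists_of_eq (M := Q.primeCompl) (S := X'.presheaf.stalk (f' y)) h
      refine ⟨⟨α.symm c, fun h' => c.2 ?_⟩, α.injective ?_⟩
      · exact (α.apply_symm_apply (c : Γ(X', V))) ▸ (show α (α.symm (c : Γ(X', V))) ∈ Q from h')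
      · show α (α.symm (c : Γ(X', V)) * z) = α (α.symm (c : Γ(X', V)) * w)
        rw [map_mul, map_mul, α.apply_symm_apply]; exact hc
  refine ⟨ψ, hψa, q, inferInstance, fun z hz => ?_, ?_,
    (IsLocalization.algEquiv q.primeCompl (Localization.AtPrime q) (X'.presheaf.stalk (f' y))).toRingEquiv, ?_⟩
  · show α z ∈ Q
    by_contra hzQ
    have hu : IsUnit (X'.presheaf.germ V (f' y) hmem (α z)) :=
      IsLocalization.map_units (X'.presheaf.stalk (f' y)) (⟨α z, hzQ⟩ : Q.primeCompl)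
    have := hu.map (f'.stalkMap y).hom
    rw [Scheme.Hom.germ_stalkMap_apply f' V y hmem (α z), (hker z).2 hz, map_zero] at this
    exact not_isUnit_zero this
  · ext x
    show α (algebraMap _ C x) ∈ Q ↔ _
    rw [hα]
    let _ := X.presheaf.algebra_section_stalk ⟨b (f' y), hy⟩
    have := U.2.isLocalization_stalk ⟨b (f' y), hy⟩
    rw [← IsLocalization.AtPrime.to_map_mem_maximal_iff (X'.presheaf.stalk (f' y)) Q,
      ← IsLocalization.AtPrime.to_map_mem_maximal_iff (X.presheaf.stalk (b (f' y)))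
        (U.2.primeIdealOf ⟨b (f' y), hy⟩).asIdeal,
      show algebraMap Γ(X', V) (X'.presheaf.stalk (f' y)) (b.appLE U.1 V hUV x) =
        (b.stalkMap (f' y)) (X.presheaf.germ U.1 _ hy x) by
        rw [Scheme.Hom.germ_stalkMap_apply]
        exact (ConcreteCategory.congr_hom (X'.presheaf.germ_res (homOfLE hUV) (f' y) hmem) (b.app U.1 x)),
      IsLocalRing.mem_maximalIdeal, IsLocalRing.mem_maximalIdeal, mem_nonunits_iff, mem_nonunits_iff]
    rw [show algebraMap Γ(X, U.1) (X.presheaf.stalk (b (f' y))) = (X.presheaf.germ U.1 _ hy).hom from rfl]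
    exact not_congr (isUnit_map_iff (b.stalkMap (f' y)).hom _)
  · refine Eq.trans ?_ (Groth.Agent.CAlgH.CIImmersion.ker_stalkMap_eq f' y hV hmem).symm
    refine (Ideal.map_map _ _).trans ?_
    have h1 : RingHom.ker (f'.app V).hom = (RingHom.ker ψ).map α.toRingHom := by
      rw [show (RingHom.ker ψ).map α.toRingHom = (RingHom.ker ψ).comap α.symm from (Ideal.comap_symm α).symm]
      ext z
      rw [RingHom.mem_ker, Ideal.mem_comap, RingHom.mem_ker, ← hker, α.apply_symm_apply]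
    refine Eq.trans ?_ (congrArg (Ideal.map (X'.presheaf.germ V (f' y) hmem).hom) h1).symm
    refine Eq.trans ?_ (Ideal.map_map _ _).symm
    refine congrArg (fun h => Ideal.map h (RingHom.ker ψ)) (RingHom.ext fun z => ?_)
    exact (IsLocalization.algEquiv q.primeCompl (Localization.AtPrime q) (X'.presheaf.stalk (f' y))).commutes z

end Groth.Agent.RegStrict13
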