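import Groth.Agent.CAlgH.RegImmLocal
import Groth.Agent.FlatMorKoszul.Quot
import Mathlib

/-!
# Adapted generators of two regular ideals with regular intersection
-/

set_option autoImplicit false

universe u

open IsLocalRing RingTheory.Sequence
open Groth.Agent.CAlgH Groth.Agent.CAlgH.KoszulRegular

namespace Groth.Agent.RegStrict13

variable {O : Type u} [CommRing O] [IsLocalRing O] [IsNoetherianRing O]

theorem exists_kreg_gens {R : Type u} [CommRing R] {I : Ideal R} (h : CInt.IsRegularIdeal I) :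
    ∃ (n : ℕ) (f : Fin n → R), KReg f ∧ I = Ideal.span (Set.range f) := by
  obtain ⟨rs, hrs, rfl⟩ := h
  refine ⟨rs.length, rs.get, KoszulH1.kreg_of_isWeaklyRegular (by rw [List.ofFn_get]; exact hrs.toIsWeaklyRegular), ?_⟩
  rw [Ideal.ofList, Set.range_list_get]

/-- Lifts of a regular sequence generating the image of `I` in `O/J`. -/
theorem exists_lift (I J : Ideal O) {n : ℕ} {j : Fin n → O} (hj : KReg j) (hJ : J = Ideal.span (Set.range j))
    (hI : CInt.IsRegularIdeal (I.map (Ideal.Quotient.mk J))) :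
    ∃ (t : ℕ) (h : Fin t → O), (∀ l, h l ∈ I) ∧ KReg (Fin.append h j) ∧
      I ⊔ J = Ideal.span (Set.range (Fin.append h j)) := by
  obtain ⟨t, hb, hhb, hspan⟩ := exists_kreg_gens hI
  have hlift : ∀ l, ∃ x ∈ I, Ideal.Quotient.mk J x = hb l := fun l =>
    (Ideal.mem_map_iff_of_surjective _ Ideal.Quotient.mk_surjective).1 (hspan ▸ Ideal.subset_span ⟨l, rfl⟩)
  choose h hhI hh using hlift
  refine ⟨t, h, hhI, FlatMorKoszul.kreg_append (φ := Ideal.Quotient.mk J) Ideal.Quotient.mk_surjective
    (by rw [Ideal.mk_ker, hJ]) hj (by simpa only [hh] using hhb), ?_⟩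
  have h1 : Ideal.span (Set.range hb) = (Ideal.span (Set.range h)).map (Ideal.Quotient.mk J) := by
    rw [Ideal.map_span, ← Set.range_comp]
    exact congrArg _ (congrArg Set.range (funext fun l => (hh l).symm))
  have h2 := congrArg (Ideal.comap (Ideal.Quotient.mk J)) (hspan.trans h1)
  rw [Ideal.comap_map_of_surjective _ Ideal.Quotient.mk_surjective,
    Ideal.comap_map_of_surjective _ Ideal.Quotient.mk_surjective, ← RingHom.ker_eq_comap_bot, Ideal.mk_ker] at h2
  rw [h2, FlatMorKoszul.range_append, Ideal.span_union, ← hJ]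

/-- A regular ideal meets `m (I + J)` in `m` times itself. -/
theorem mem_smul_of_mem (I J : Ideal O) (hle : I ⊔ J ≤ maximalIdeal O) {n : ℕ} {j : Fin n → O}
    (hJ : J = Ideal.span (Set.range j)) {t : ℕ} {h : Fin t → O} (hk : KReg (Fin.append h j))
    (hP : I ⊔ J = Ideal.span (Set.range (Fin.append h j))) {x : O} (hx : x ∈ J)
    (hx' : x ∈ maximalIdeal O * (I ⊔ J)) : x ∈ maximalIdeal O * J := by
  classical
  obtain ⟨c, rfl⟩ := Ideal.mem_span_range_iff_exists_fun.1 (hJ ▸ hx)
  rw [hP] at hx'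
  obtain ⟨d, hd⟩ := (Submodule.mem_ideal_smul_span_iff_exists_sum (maximalIdeal O) (Fin.append h j) _).1 hx'
  obtain ⟨hdm, hd⟩ := hd
  rw [d.sum_fintype (fun i c => c • Fin.append h j i) (fun i => zero_smul O _)] at hd
  simp only [smul_eq_mul] at hd
  let a : Fin (t + n) → O := fun l => Fin.append (0 : Fin t → O) c l - d l
  have ha : ∑ l, a l * Fin.append h j l = 0 := by
    simp only [a, sub_mul, Finset.sum_sub_distrib]
    rw [show ∑ l, d l * Fin.append h j l = ∑ i, c i * j i from hd, Fin.sum_univ_add]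
    simp
  rw [hJ]
  refine Ideal.sum_mem _ fun i _ => Ideal.mul_mem_mul ?_ (Ideal.subset_span ⟨i, rfl⟩)
  have h1 : a (Fin.natAdd t i) ∈ maximalIdeal O := hle (hP.ge (coeff_mem_of_relation hk ha _))
  have h2 := add_mem h1 (hdm (Fin.natAdd t i))
  simpa [a] using h2

/-- Adapted generators. -/
theorem exists_adapted (I J : Ideal O) (hIm : I ≤ maximalIdeal O) (hJm : J ≤ maximalIdeal O)
    (hI : CInt.IsRegularIdeal I) (hJ : CInt.IsRegularIdeal J)
    (hIJ : CInt.IsRegularIdeal (I.map (Ideal.Quotient.mk J))) (hJI : CInt.IsRegularIdeal (J.map (Ideal.Quotient.mk I))) :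
    ∃ (a b c : ℕ) (v : Fin a → O) (f : Fin b → O) (g : Fin c → O),
      (∀ l, v l ∈ J) ∧ (∀ l, g l ∈ J) ∧ I = Ideal.span (Set.range (Fin.append v f)) ∧
      J = Ideal.span (Set.range v ∪ Set.range g) ∧
      IsWeaklyRegular O (List.ofFn (Fin.append v f) ++ List.ofFn g) := by
  classical
  obtain ⟨r, i, hi, hIi⟩ := exists_kreg_gens hI
  obtain ⟨s, j, hj, hJj⟩ := exists_kreg_gens hJ
  obtain ⟨t, g, hgJ, hgk, hgP⟩ := exists_lift J I hi hIi hJI
  obtain ⟨t', h, hhI, hhk, hhP⟩ := exists_lift I J hj hJj hIJ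
  have hinjI : ∀ x ∈ I, x ∈ maximalIdeal O * (I ⊔ J) → x ∈ maximalIdeal O * I := fun x hx hx' =>
    mem_smul_of_mem J I (sup_le hJm hIm) hIi hgk hgP hx (by rwa [sup_comm])
  have hinjJ : ∀ x ∈ J, x ∈ maximalIdeal O * (I ⊔ J) → x ∈ maximalIdeal O * J := fun x hx hx' =>
    mem_smul_of_mem I J (sup_le hIm hJm) hJj hhk hhP hx hx'
  let K := ResidueField O
  let red : (Fin r → O) → (Fin r → K) := fun c l => residue O (c l)
  let S : Set (Fin r → K) := red '' {c | ∑ l, c l * i l ∈ J}
  obtain ⟨b₀, hb₀S, hb₀span, hb₀li⟩ := exists_linearIndependent K S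
  let hext : LinearIndepOn K id b₀ := hb₀li
  let B := hext.extend (Set.subset_univ b₀)
  have hB₀ : b₀ ⊆ B := hext.subset_extend _
  have hBli : LinearIndepOn K id B := hext.linearIndepOn_extend _
  have hBspan : Submodule.span K B = ⊤ :=
    top_le_iff.1 (Submodule.span_univ.ge.trans (Submodule.span_le.2 (hext.subset_span_extend _)))
  have : Fintype B := (LinearIndependent.setFinite hBli).fintype
  have : Fintype b₀ := ((LinearIndependent.setFinite hBli).subset hB₀).fintype
  have hsurj : Function.Surjective red := fun v => by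
    choose w hw using fun l => residue_surjective (v l)
    exact ⟨w, funext hw⟩
  choose cv hcvJ hcv using fun x : b₀ => hb₀S x.2
  choose cf hcf using fun x : ↑(B \ b₀) => hsurj x.1
  have : Fintype ↑(B \ b₀) := ((LinearIndependent.setFinite hBli).subset Set.diff_subset).fintype
  let a := Fintype.card b₀
  let b := Fintype.card ↑(B \ b₀)
  let val : (Fin r → O) → O := fun c => ∑ l, c l * i l
  let v : Fin a → O := fun l => val (cv ((Fintype.equivFin b₀).symm l))
  let f : Fin b → O := fun l => val (cf ((Fintype.equivFin _).symm l))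
  have hab : a + b = r := by
    have h1 : Fintype.card B = r := by
      have hbas := Module.Basis.mk hBli (by rw [show Set.range (fun x : B => id (x : Fin r → K)) = B from Subtype.range_coe]; exact hBspan.ge)
      rw [← Module.finrank_eq_card_basis hbas, Module.finrank_fin_fun]
    rw [← h1, ← Fintype.card_congr (Equiv.Set.sumDiffSubset hB₀), Fintype.card_sum]
  have hval : ∀ c, val c ∈ I := fun c => hIi ▸ Ideal.sum_mem _ fun l _ =>
    Ideal.mul_mem_left _ _ (Ideal.subset_span ⟨l, rfl⟩)
  have hdec : ∀ (T : Set (Fin r → K)) (c : Fin r → O) (Q : Ideal O), red c ∈ Submodule.span K T →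
      (∀ x ∈ T, ∃ c', red c' = x ∧ val c' ∈ Q) → val c ∈ Q ⊔ maximalIdeal O * I := by
    intro T c Q hc hT
    let M : Submodule O (Fin r → O) :=
      { carrier := {c | val c ∈ Q ⊔ maximalIdeal O * I}
        add_mem' := fun {x y} hx hy => by
          simp only [Set.mem_setOf_eq] at hx hy ⊢
          simp only [val, Pi.add_apply, add_mul, Finset.sum_add_distrib]
          exact add_mem hx hy
        zero_mem' := by simp [val]
        smul_mem' := fun o x hx => by
          simp only [Set.mem_setOf_eq] at hx ⊢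
          simp only [val, Pi.smul_apply, smul_eq_mul, mul_assoc, ← Finset.mul_sum]
          exact Ideal.mul_mem_left _ _ hx }
    have hker : ∀ c, red c = 0 → c ∈ M := fun c hc => Submodule.mem_sup_right (Ideal.sum_mem _ fun l _ =>
      Ideal.mul_mem_mul ((residue_eq_zero_iff _).1 (congrFun hc l)) (hIi ▸ Ideal.subset_span ⟨l, rfl⟩))
    suffices H : ∀ y ∈ Submodule.span K T, ∀ c, red c = y → c ∈ M from H _ hc c rfl
    intro y hy
    induction hy using Submodule.span_induction with
    | mem x hx =>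
      intro c hc
      obtain ⟨c', hc', hQ⟩ := hT x hx
      have : c' ∈ M := Submodule.mem_sup_left hQ
      rw [← sub_add_cancel c c']
      refine M.add_mem (hker _ (funext fun l => ?_)) this
      have h1 := congrFun hc l
      have h2 := congrFun hc' l
      simp only [red, Pi.sub_apply, map_sub, Pi.zero_apply] at h1 h2 ⊢
      rw [h1, h2, sub_self]
    | zero => exact hker
    | add x y _ _ hx hy =>
      intro c hc
      obtain ⟨c₁, hc₁⟩ := hsurj x
      rw [← sub_add_cancel c c₁, add_comm]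
      refine M.add_mem (hx _ hc₁) (hy _ (funext fun l => ?_))
      have h1 := congrFun hc l
      have h2 := congrFun hc₁ l
      simp only [red, Pi.sub_apply, map_sub, Pi.add_apply] at h1 h2 ⊢
      rw [h1, h2, add_sub_cancel_left]
    | smul o x _ hx =>
      intro c hc
      obtain ⟨o', ho'⟩ := residue_surjective o
      obtain ⟨c₁, hc₁⟩ := hsurj x
      rw [← sub_add_cancel c (o' • c₁)]
      refine M.add_mem (hker _ (funext fun l => ?_)) (M.smul_mem _ (hx _ hc₁))
      have h1 := congrFun hc l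
      have h2 := congrFun hc₁ l
      simp only [red, Pi.sub_apply, map_sub, Pi.smul_apply, smul_eq_mul, map_mul, Pi.zero_apply] at h1 h2 ⊢
      rw [h1, h2, ho', sub_self]
  have hvJ : ∀ l, v l ∈ J := fun l => hcvJ _
  have hIeq : I = Ideal.span (Set.range (Fin.append v f)) := by
    refine le_antisymm ?_ (Ideal.span_le.2 ?_)
    · refine Submodule.le_of_le_smul_of_le_jacobson_bot (IsNoetherian.noetherian I) (maximalIdeal_le_jacobson _)
        fun x hx => ?_
      obtain ⟨c, rfl⟩ := Ideal.mem_span_range_iff_exists_fun.1 (hIi ▸ hx)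
      refine hdec B c _ (hBspan ▸ Submodule.mem_top) fun y hy => ?_
      by_cases hy' : y ∈ b₀
      · refine ⟨cv ⟨y, hy'⟩, hcv ⟨y, hy'⟩, Ideal.subset_span ⟨Fin.castAdd b (Fintype.equivFin b₀ ⟨y, hy'⟩), ?_⟩⟩
        simp [v]
      · refine ⟨cf ⟨y, hy, hy'⟩, hcf ⟨y, hy, hy'⟩, Ideal.subset_span
          ⟨Fin.natAdd a (Fintype.equivFin ↑(B \ b₀) ⟨y, hy, hy'⟩), ?_⟩⟩
        simp [f]
    · rintro _ ⟨l, rfl⟩
      refine Fin.addCases (fun l => ?_) (fun l => ?_) l <;> simp [v, f, hval]
  have hgens : J ⊔ I = Ideal.span (Set.range g) ⊔ I := by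
    rw [hgP, FlatMorKoszul.range_append, Ideal.span_union, ← hIi]
  have hJeq : J = Ideal.span (Set.range v ∪ Set.range g) := by
    have hle : Ideal.span (Set.range v ∪ Set.range g) ≤ J := Ideal.span_le.2 (by
      rintro _ (⟨l, rfl⟩ | ⟨l, rfl⟩)
      · exact hvJ l
      · exact hgJ l)
    refine le_antisymm ?_ hle
    refine Submodule.le_of_le_smul_of_le_jacobson_bot (IsNoetherian.noetherian J) (maximalIdeal_le_jacobson _)
      fun x hx => ?_
    obtain ⟨y, hy, z, hz, rfl⟩ := Submodule.mem_sup.1 (hgens ▸ Ideal.mem_sup_left hx :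
      x ∈ Ideal.span (Set.range g) ⊔ I)
    have hyJ : y ∈ J := hle (Ideal.span_mono Set.subset_union_right hy)
    have hzJ : z ∈ J := (Submodule.add_mem_iff_right J hyJ).1 hx
    obtain ⟨c, rfl⟩ := Ideal.mem_span_range_iff_exists_fun.1 (hIi ▸ hz)
    obtain ⟨p, hp, q, hq, hpq⟩ := Submodule.mem_sup.1 (hdec b₀ c (Ideal.span (Set.range v ∪ Set.range g))
      (hb₀span ▸ Submodule.subset_span ⟨c, hzJ, rfl⟩) fun y hy => ⟨cv ⟨y, hy⟩, hcv ⟨y, hy⟩,
        Ideal.subset_span (Or.inl ⟨Fintype.equivFin b₀ ⟨y, hy⟩, by simp [v]⟩)⟩)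
    have hqJ : q ∈ J := (Submodule.add_mem_iff_right J (hle hp)).1 (hpq ▸ hzJ)
    refine add_mem (Submodule.mem_sup_left (Ideal.span_mono Set.subset_union_right hy)) ?_
    show val c ∈ _
    rw [← hpq]
    exact add_mem (Submodule.mem_sup_left hp)
      (Submodule.mem_sup_right (hinjJ q hqJ (Ideal.mul_mono_right le_sup_left hq)))
  have hm : ∀ l, Fin.append v f l ∈ maximalIdeal O := fun l => hIm (hIeq ▸ Ideal.subset_span ⟨l, rfl⟩)
  have hvf : KReg (Fin.append v f) := by
    have : ∀ (n : ℕ) (e : n = r) (F : Fin n → O), Ideal.span (Set.range F) = I → KReg F := by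
      rintro n rfl F hF
      exact kreg_of_span_eq hi (hF.trans hIi)
    exact this _ hab _ hIeq.symm
  refine ⟨a, b, t, v, f, g, hvJ, hgJ, hIeq, hJeq, ?_⟩
  have hgmk : KReg fun l => Ideal.Quotient.mk I (g l) :=
    FlatMorKoszul.kreg_of_append Ideal.Quotient.mk_surjective (by rw [Ideal.mk_ker, hIi]) hi hgk
  have h1 := KoszulH1.isWeaklyRegular_of_kreg (f := Fin.append g (Fin.append v f))
    (fun l => maximalIdeal_le_jacobson _ (Fin.addCases (fun l => by simpa using hJm (hgJ l))
      (fun l => by rw [Fin.append_right]; exact hm l) l))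
    (FlatMorKoszul.kreg_append Ideal.Quotient.mk_surjective (by rw [Ideal.mk_ker, hIeq]) hvf hgmk)
  rw [List.ofFn_fin_append] at h1
  refine IsLocalRing.isWeaklyRegular_of_perm_of_subset_maximalIdeal h1 List.perm_append_comm fun x hx => ?_
  rcases List.mem_append.1 hx with hx | hx <;> obtain ⟨l, rfl⟩ := List.mem_ofFn.1 hx
  · exact hJm (hgJ l)
  · exact hm l

end Groth.Agent.RegStrict13
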