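import Groth.Agent.RegStrict13.Chart
import Groth.Agent.RegStrict13.ChartStalk
import Groth.Agent.SDiv28.BlowUp
import Groth.Agent.BlowUpLib.StrictImage
import Groth.Agent.CAlgH.CIPresentation
import Groth.Agent.Pur21Lib.ExceptionalFibre

/-!
# The strict transform of a regularly embedded subscheme is regularly embedded
-/

set_option autoImplicit false
set_option maxHeartbeats 800000
set_option backward.isDefEq.respectTransparency false

universe u

open CategoryTheory Limits AlgebraicGeometry TopologicalSpace Opposite IsLocalRing RingTheory.Sequence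
open Groth.Agent.BlowUpLib Groth.Agent.SDiv28 Groth.Agent.SDiv28.FibreCartier Groth.Agent.CAlgH Groth.Agent.CAlgH.KoszulRegular

namespace Groth.Agent.RegStrict13

variable {Z : Scheme.{u}}

theorem le_maximal_of_mem_support (I : Z.IdealSheafData) {z : Z} (U : Z.affineOpens) (hz : z ∈ U.1)
    (h : z ∈ I.support) : (I.ideal U).map (Z.presheaf.germ U.1 z hz).hom ≤ maximalIdeal _ := by
  rw [Ideal.map_le_iff_le_comap]
  intro x hx
  rw [Ideal.mem_comap, IsLocalRing.mem_maximalIdeal, mem_nonunits_iff]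
  intro hu
  have h1 := (I.mem_support_iff_of_mem hz).1 h
  rw [Scheme.mem_zeroLocus_iff] at h1
  exact h1 x hx ((Scheme.mem_basicOpen _ _ _ hz).2 hu)

theorem isRegularIdeal_stalk (I : Z.IdealSheafData) (hI : RegImm.IsRegularIdeal RegImm.Kind.regular I) {z : Z}
    (U : Z.affineOpens) (hz : z ∈ U.1) (h : z ∈ I.support) :
    CInt.IsRegularIdeal ((I.ideal U).map (Z.presheaf.germ U.1 z hz).hom) := by
  obtain ⟨V, hzV, rs, hrs, hid⟩ := hI z h
  have hm := le_maximal_of_mem_support I V hzV h
  rw [germ_ideal_eq I U V hz hzV, hid, Ideal.map_ofList]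
  let _ := Z.presheaf.algebra_section_stalk ⟨z, hzV⟩
  have := V.2.isLocalization_stalk ⟨z, hzV⟩
  have : Module.Flat Γ(Z, V.1) (Z.presheaf.stalk z) :=
    IsLocalization.flat _ (V.2.primeIdealOf ⟨z, hzV⟩).asIdeal.primeCompl
  refine ⟨_, RegImmLocal.isRegular_of_mem_maximal
    (IsWeaklyRegular.of_flat (S := Z.presheaf.stalk z) hrs.toIsWeaklyRegular) fun r hr => ?_, rfl⟩
  rw [hid, Ideal.map_ofList] at hm
  exact hm (Ideal.subset_span hr)

theorem isRegularIdeal_quot [IsLocallyNoetherian Z] (I J : Z.IdealSheafData)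
    (hIJ : RegImm.IsRegularIdeal RegImm.Kind.regular (I.comap J.subschemeι)) {z : Z} (U : Z.affineOpens)
    (hz : z ∈ U.1) (hzI : z ∈ I.support) (hzJ : z ∈ J.support) :
    CInt.IsRegularIdeal (((I.ideal U).map (Z.presheaf.germ U.1 z hz).hom).map
      (Ideal.Quotient.mk ((J.ideal U).map (Z.presheaf.germ U.1 z hz).hom))) := by
  obtain ⟨y, rfl⟩ : z ∈ Set.range J.subschemeι := by rw [Scheme.IdealSheafData.range_subschemeι]; exact hzJ
  let ι := J.subschemeι
  let U' : J.subscheme.affineOpens := ⟨ι ⁻¹ᵁ U.1, U.2.preimage ι⟩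
  have hy : y ∈ U'.1 := hz
  have hysupp : y ∈ (I.comap ι).support := by
    rw [Scheme.IdealSheafData.support_comap]; exact hzI
  have h1 := isRegularIdeal_stalk (I.comap ι) hIJ U' hy hysupp
  rw [← stalk_comap ι I y U hz U' hy] at h1
  have hs : Function.Surjective (ι.stalkMap y).hom := ι.stalkMap_surjective y
  have hk : (J.ideal U).map (Z.presheaf.germ U.1 (ι y) hz).hom = RingHom.ker (ι.stalkMap y).hom := by
    rw [CIImmersion.ker_stalkMap_eq ι y U.2 hz, Scheme.IdealSheafData.ker_subschemeι_app]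
  let e := (Ideal.quotEquivOfEq hk).trans (RingHom.quotientKerEquivOfSurjective hs)
  have := e.symm.isLocalRing
  have : IsNoetherianRing (J.subscheme.presheaf.stalk y) :=
    isNoetherianRing_of_surjective _ _ (ι.stalkMap y).hom hs
  have h2 := CIPresentation.isRegularIdeal_map_equiv e.symm h1
  rw [Ideal.map_map] at h2 ⊢
  rw [Ideal.map_map] at h2
  convert h2 using 2
  refine RingHom.ext fun x => ?_
  show Ideal.Quotient.mk _ (Z.presheaf.germ U.1 (ι y) hz x) = e.symm ((ι.stalkMap y).hom (Z.presheaf.germ U.1 (ι y) hz x))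
  rw [RingEquiv.eq_symm_apply]
  rfl

/-- Spreading out a weakly regular generating sequence. -/
theorem exists_spread {R : Type u} [CommRing R] [IsNoetherianRing R] (p : Ideal R) [p.IsPrime] (L : Type u) [CommRing L]
    [Algebra R L] [IsLocalization.AtPrime L p] (I : Ideal R) (as bs : List R) (has : ∀ x ∈ as, x ∈ I)
    (hp : ∀ x ∈ as ++ bs, x ∈ p) (hspan : I.map (algebraMap R L) = (Ideal.ofList as).map (algebraMap R L))
    (hreg : IsWeaklyRegular L ((as ++ bs).map (algebraMap R L))) :
    ∃ G : R, G ∉ p ∧ ∀ (RG : Type u) [CommRing RG] [Algebra R RG] [IsLocalization.Away G RG],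
      IsWeaklyRegular RG ((as ++ bs).map (algebraMap R RG)) ∧
        I.map (algebraMap R RG) = Ideal.ofList (as.map (algebraMap R RG)) := by
  let e := IsLocalization.algEquiv p.primeCompl L (Localization.AtPrime p)
  have hregQ : IsWeaklyRegular (Localization.AtPrime p) ((as ++ bs).map (algebraMap R (Localization.AtPrime p))) := by
    rw [isWeaklyRegular_map_algebraMap_iff (Localization.AtPrime p) (Localization.AtPrime p),
      ← e.toLinearEquiv.isWeaklyRegular_congr, ← isWeaklyRegular_map_algebraMap_iff L L]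
    exact hreg
  obtain ⟨g₁, hg₁, hcolon⟩ := FlatMorKoszul.exists_colon_of_weaklyRegular p hregQ
  obtain ⟨g₂, hg₂, hgen⟩ : ∃ g : R, g ∉ p ∧ ∀ x ∈ I, g * x ∈ Ideal.ofList as := by
    obtain ⟨s, hs⟩ := IsNoetherian.noetherian I
    have hx : ∀ x : s, ∃ g : R, g ∉ p ∧ g * x ∈ Ideal.ofList as := fun x => by
      obtain ⟨g, hg, hgx⟩ := (IsLocalization.algebraMap_mem_map_algebraMap_iff p.primeCompl L _ _).1
        (hspan.le (Ideal.mem_map_of_mem _ (hs ▸ Submodule.subset_span x.2)))
      exact ⟨g, hg, hgx⟩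
    choose g hg hgx using hx
    classical
    refine ⟨∏ x, g x, fun hmem => ?_, fun x hx => ?_⟩
    · obtain ⟨x, -, hx⟩ := Ideal.IsPrime.prod_mem_iff.1 hmem
      exact hg x hx
    · have : I ≤ Submodule.comap (LinearMap.mulLeft R (∏ x, g x)) (Ideal.ofList as) := by
        rw [← hs]
        refine Ideal.span_le.2 fun y hy => ?_
        show (∏ x, g x) * y ∈ Ideal.ofList as
        rw [← Finset.mul_prod_erase Finset.univ g (Finset.mem_univ (⟨y, hy⟩ : s)), mul_right_comm]
        exact Ideal.mul_mem_right _ _ (hgx ⟨y, hy⟩)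
      exact this hx
  have hG : g₁ * g₂ ∉ p := fun h => (Ideal.IsPrime.mem_or_mem inferInstance h).elim hg₁ hg₂
  refine ⟨g₁ * g₂, hG, fun RG _ _ _ => ⟨(Nrm16Lib.isRegular_away p hp hG
    (fun i hi x hx => by rw [mul_assoc, mul_left_comm]; exact Ideal.mul_mem_left _ _ (hcolon i hi x hx))
    RG).toIsWeaklyRegular, ?_⟩⟩
  rw [← Ideal.map_ofList]
  refine le_antisymm (Ideal.map_le_iff_le_comap.2 fun x hx => ?_) (Ideal.map_mono (Ideal.span_le.2 has))
  rw [Ideal.mem_comap]
  have h1 := Ideal.mul_mem_left _ (algebraMap R RG g₁) (Ideal.mem_map_of_mem (algebraMap R RG) (hgen x hx))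
  rw [← map_mul, ← mul_assoc, map_mul,
    Ideal.unit_mul_mem_iff_mem _ (IsLocalization.Away.algebraMap_isUnit (g₁ * g₂))] at h1
  exact h1

/-- An element of a localised ideal is a unit times an element of the ideal. -/
theorem exists_rep {R : Type u} [CommRing R] (p : Ideal R) [p.IsPrime] (L : Type u) [CommRing L] [Algebra R L]
    [IsLocalization.AtPrime L p] {I : Ideal R} {z : L} (hz : z ∈ I.map (algebraMap R L)) :
    ∃ (x : R) (w : L), x ∈ I ∧ IsUnit w ∧ algebraMap R L x = z * w := by
  obtain ⟨⟨x, t⟩, h⟩ := (IsLocalization.mem_map_algebraMap_iff p.primeCompl L).1 hz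
  exact ⟨x, algebraMap R L t, x.2, IsLocalization.map_units L t, h.symm⟩

theorem span_mul_units {R : Type u} [CommRing R] {ι : Type*} (x y : ι → R) (h : ∀ i, ∃ w, IsUnit w ∧ y i = x i * w) :
    Ideal.span (Set.range y) = Ideal.span (Set.range x) := by
  refine le_antisymm (Ideal.span_le.2 ?_) (Ideal.span_le.2 ?_) <;> rintro _ ⟨i, rfl⟩ <;>
    obtain ⟨w, hw, hyi⟩ := h i
  · rw [SetLike.mem_coe, hyi]; exact Ideal.mul_mem_right _ _ (Ideal.subset_span ⟨i, rfl⟩)
  · refine (Ideal.mul_unit_mem_iff_mem _ hw).1 ?_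
    rw [← hyi]; exact Ideal.subset_span ⟨i, rfl⟩

variable {Z' Y' : Scheme.{u}}

theorem main [IsLocallyNoetherian Z] [IsLocallyNoetherian Z'] (W Y : Z.IdealSheafData)
    (hW : RegImm.IsRegularIdeal RegImm.Kind.regular W) (hY : RegImm.IsRegularIdeal RegImm.Kind.regular Y)
    (hXY : RegImm.IsRegularIdeal RegImm.Kind.regular (W.comap Y.subschemeι))
    (hXW : RegImm.IsRegularIdeal RegImm.Kind.regular (Y.comap W.subschemeι))
    (b : Z' ⟶ Z) (hb : BlowUp.IsBlowUp b W)
    (b' : Y' ⟶ Y.subscheme) (hb' : BlowUp.IsBlowUp b' (W.comap Y.subschemeι))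
    (k : Y' ⟶ Z') [IsClosedImmersion k] (hk : k ≫ b = b' ≫ Y.subschemeι) (y : Y') :
    CInt.IsRegularIdeal (RingHom.ker (k.stalkMap y).hom) := by
  let ι := Y.subschemeι
  let y0 := b' y
  have hz0 : ι y0 = b (k y) := by
    show (b' ≫ ι) y = (k ≫ b) y
    rw [hk]
  let z := b (k y)
  have hzY : z ∈ Y.support := by
    have : ι y0 ∈ Set.range ι := ⟨y0, rfl⟩
    rw [Scheme.IdealSheafData.range_subschemeι, hz0] at this
    exact this
  by_cases hzW : z ∈ W.support
  · obtain ⟨_, ⟨U, hU, rfl⟩, hzU, -⟩ :=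
      Z.isBasis_affineOpens.exists_subset_of_mem_open (Set.mem_univ z) isOpen_univ
    let U : Z.affineOpens := ⟨U, hU⟩
    have := IsLocallyNoetherian.component_noetherian U
    let R := Γ(Z, U.1)
    let O := Z.presheaf.stalk z
    let _ : Algebra R O := Z.presheaf.algebra_section_stalk ⟨z, hzU⟩
    let p := (U.2.primeIdealOf ⟨z, hzU⟩).asIdeal
    have : IsLocalization.AtPrime O p := U.2.isLocalization_stalk ⟨z, hzU⟩
    have hIm : (W.ideal U).map (algebraMap R O) ≤ maximalIdeal O := le_maximal_of_mem_support W U hzU hzW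
    have hJm : (Y.ideal U).map (algebraMap R O) ≤ maximalIdeal O := le_maximal_of_mem_support Y U hzU hzY
    obtain ⟨a, n, c, v, f, g, hvJ, hgJ, hIeq, hJeq, hreg⟩ := exists_adapted _ _ hIm hJm
      (isRegularIdeal_stalk W hW U hzU hzW) (isRegularIdeal_stalk Y hY U hzU hzY)
      (isRegularIdeal_quot W Y hXY U hzU hzW hzY) (isRegularIdeal_quot Y W hXW U hzU hzY hzW)
    have hrepI : ∀ i, ∃ (x : R) (w : O), x ∈ W.ideal U ∧ IsUnit w ∧ algebraMap R O x = Fin.append v f i * w :=
      fun i => exists_rep p O (hIeq ▸ Ideal.subset_span ⟨i, rfl⟩)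
    have hrepJ : ∀ i, ∃ (x : R) (w : O), x ∈ Y.ideal U ∧ IsUnit w ∧ algebraMap R O x = g i * w :=
      fun i => exists_rep p O (hgJ i)
    have hrepV : ∀ i, ∃ (x : R) (w : O), (x ∈ W.ideal U ∧ x ∈ Y.ideal U) ∧ IsUnit w ∧
        algebraMap R O x = v i * w := fun i => by
      obtain ⟨x, w, hx, hw, hxw⟩ := hrepI (Fin.castAdd n i)
      rw [Fin.append_left] at hxw
      obtain ⟨t, ht, htx⟩ := (IsLocalization.algebraMap_mem_map_algebraMap_iff p.primeCompl O (Y.ideal U) x).1
        (hxw ▸ Ideal.mul_mem_right _ _ (hvJ i))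
      refine ⟨t * x, algebraMap R O t * w, ⟨Ideal.mul_mem_left _ _ hx, htx⟩,
        (IsLocalization.map_units O (⟨t, ht⟩ : p.primeCompl)).mul hw, ?_⟩
      rw [map_mul, hxw]; ring
    choose xv wv hxv hwv hxwv using hrepV
    choose xf wf hxf hwf hxwf using fun i : Fin n => hrepI (Fin.natAdd a i)
    choose xg wg hxg hwg hxwg using hrepJ
    let F := Fin.append xv xf
    have hFI : ∀ i, F i ∈ W.ideal U := fun i =>
      Fin.addCases (fun i => by simpa [F] using (hxv i).1) (fun i => by simpa [F] using hxf i) i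
    have hspanF : Ideal.span (Set.range fun i => algebraMap R O (F i)) = (W.ideal U).map (algebraMap R O) := by
      refine (span_mul_units (Fin.append v f) _ fun i => ?_).trans hIeq.symm
      refine Fin.addCases (fun i => ⟨wv i, hwv i, ?_⟩) (fun i => ⟨wf i, hwf i, ?_⟩) i
      · simp [F, hxwv]
      · simp [F, hxwf]
    have hm : ∀ i, algebraMap R O (F i) ∈ maximalIdeal O := fun i => hIm (Ideal.mem_map_of_mem _ (hFI i))
    have hmg : ∀ i, algebraMap R O (xg i) ∈ maximalIdeal O := fun i => hJm (Ideal.mem_map_of_mem _ (hxg i))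
    have hreg' : IsWeaklyRegular O ((List.ofFn F ++ List.ofFn xg).map (algebraMap R O)) := by
      rw [← List.ofFn_fin_append] at hreg ⊢
      rw [List.map_ofFn]
      refine RegImmLocal.isWeaklyRegular_of_span hreg (span_mul_units _ _ fun i => ?_) fun i => ?_
      · refine Fin.addCases (fun i => Fin.addCases (fun i => ⟨wv i, hwv i, ?_⟩) (fun i => ⟨wf i, hwf i, ?_⟩) i)
          (fun i => ⟨wg i, hwg i, ?_⟩) i
        · simpa using hxwg i
        · simpa [F] using hxwv i
        · simpa [F] using hxwf i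
      · refine Fin.addCases (fun i => ?_) (fun i => ?_) i
        · simpa using hm i
        · simpa using hmg i
    have hpm : ∀ x : R, algebraMap R O x ∈ maximalIdeal O → x ∈ p := fun x =>
      (IsLocalization.AtPrime.to_map_mem_maximal_iff O p x).1
    obtain ⟨G, hG, hspread⟩ := exists_spread p O (W.ideal U) (List.ofFn F) (List.ofFn xg)
      (fun x hx => by obtain ⟨i, rfl⟩ := List.mem_ofFn.1 hx; exact hFI i)
      (fun x hx => by
        rcases List.mem_append.1 hx with hx | hx <;> obtain ⟨i, rfl⟩ := List.mem_ofFn.1 hx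
        · exact hpm _ (hm i)
        · exact hpm _ (hmg i))
      (by rw [Ideal.map_ofList, List.map_ofFn, RegImmLocal.ofList_ofFn']; exact hspanF.symm) hreg'
    let D : Z.affineOpens := Z.affineBasicOpen G
    let A := Γ(Z, D.1)
    let _ : Algebra R A := (Z.presheaf.map (homOfLE (Z.basicOpen_le G)).op).hom.toAlgebra
    have : IsLocalization.Away G A := U.2.isLocalization_basicOpen G
    obtain ⟨hregA, hIA⟩ := hspread A
    have hzD : z ∈ D.1 := by
      show z ∈ Z.basicOpen G
      rw [Scheme.mem_basicOpen _ _ _ hzU]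
      exact IsLocalization.map_units O (⟨G, hG⟩ : p.primeCompl)
    have := IsLocallyNoetherian.component_noetherian D
    have hres : ∀ (I : Z.IdealSheafData), I.ideal D = (I.ideal U).map (algebraMap R A) := fun I =>
      (I.map_ideal_basicOpen U G).symm
    let FA : Fin (a + n) → A := fun i => algebraMap R A (F i)
    let gA : Fin c → A := fun i => algebraMap R A (xg i)
    have hIA' : W.ideal D = Ideal.span (Set.range FA) := by
      rw [hres, hIA, List.map_ofFn, RegImmLocal.ofList_ofFn']; rfl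
    rw [List.map_append, List.map_ofFn, List.map_ofFn, isWeaklyRegular_append_iff] at hregA
    have hFk : KReg FA := KoszulH1.kreg_of_isWeaklyRegular hregA.1
    have hgk : KReg fun i => Ideal.Quotient.mk (W.ideal D) (gA i) := by
      have h2 := hregA.2
      rw [smul_eq_mul, Ideal.mul_top,
        show Ideal.ofList (List.ofFn (algebraMap R A ∘ F)) = W.ideal D by
          rw [hIA', RegImmLocal.ofList_ofFn']; rfl,
        ← isWeaklyRegular_map_algebraMap_iff (A ⧸ W.ideal D) (A ⧸ W.ideal D), List.map_ofFn] at h2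
      exact KoszulH1.kreg_of_isWeaklyRegular h2
    obtain ⟨a₀, ⟨i, rfl⟩, hmem⟩ := exists_mem_locus b hb.1 D (show k y ∈ b ⁻¹ᵁ D.1 from hzD) (Set.range FA) hIA'.symm
    have ha : FA i ∈ W.ideal D := hIA' ▸ Ideal.subset_span ⟨i, rfl⟩
    obtain ⟨ψ, hψ, q, hqP, hψq, hqp, E, hE⟩ := chart_stalk ι hb hb' hk D y hzD (FA i) ha hmem
    have : IsNoetherianRing (Z'.presheaf.stalk (k y)) := inferInstance
    suffices H : CInt.IsRegularIdeal ((RingHom.ker ψ).map (algebraMap _ (Localization.AtPrime q))) by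
      have : IsNoetherianRing (Localization.AtPrime q) := isNoetherianRing_of_ringEquiv _ E.symm
      have h' := CIPresentation.isRegularIdeal_map_equiv E H
      rwa [hE] at h'
    let pD := (D.2.primeIdealOf ⟨z, hzD⟩).asIdeal
    let _ : Algebra A O := Z.presheaf.algebra_section_stalk ⟨z, hzD⟩
    have : IsLocalization.AtPrime O pD := D.2.isLocalization_stalk ⟨z, hzD⟩
    have hAO : ∀ x : R, algebraMap A O (algebraMap R A x) = algebraMap R O x := fun x =>
      ConcreteCategory.congr_hom (Z.presheaf.germ_res (homOfLE (Z.basicOpen_le G)) z hzD) x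
    have hkerι : RingHom.ker (ι.appLE D.1 (ι ⁻¹ᵁ D.1) le_rfl).hom = Y.ideal D := by
      rw [← Scheme.Hom.app_eq_appLE, Scheme.IdealSheafData.ker_subschemeι_app]
    revert i
    intro i
    induction i using Fin.addCases with
    | left i =>
      intro hmem ha ψ hψ q hqP hψq hqp E hE
      exfalso
      have hφa : (ι.appLE D.1 (ι ⁻¹ᵁ D.1) le_rfl).hom (FA (Fin.castAdd n i)) = 0 := by
        rw [← RingHom.mem_ker, hkerι, hres]
        exact Ideal.mem_map_of_mem _ (by simpa [F] using (hxv i).2)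
      refine hqP.ne_top (top_le_iff.1 fun x _ => hψq ?_)
      rw [RingHom.mem_ker]
      refine BlowUpKoszul.isSMulRegular_chart _ _ ?_
      exact (congrArg (· * ψ x) ((congrArg (algebraMap _ _) hφa).trans (map_zero _))).trans (zero_mul _)
    | right i =>
      cases n with
      | zero => exact i.elim0
      | succ n =>
        intro hmem ha ψ hψ q hqP hψq hqp E hE
        refine isRegularIdeal_chart (Y.ideal D) (a := a) (b := n) FA gA i hFk hIA' (fun l => ?_) (fun l => ?_)
          hgk _ hkerι ψ hψ q hψq ?_ fun x hx => ?_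
        · rw [hres]
          exact Ideal.mem_map_of_mem _ (by simpa [F] using (hxv l).2)
        · rw [hres]
          exact Ideal.mem_map_of_mem _ (hxg l)
        · rw [← Ideal.mem_comap, hqp]
          refine (IsLocalization.AtPrime.to_map_mem_maximal_iff O pD _).1 ?_
          exact le_maximal_of_mem_support W D hzD hzW (Ideal.mem_map_of_mem _ ha)
        · rw [hqp]
          have hx' : algebraMap A O x ∈ (Ideal.span (Set.range (fun l : Fin a => FA (Fin.castAdd (n + 1) l)) ∪
              Set.range gA)).map (algebraMap A O) := by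
            have h1 : algebraMap A O x ∈ (Y.ideal D).map (algebraMap A O) := Ideal.mem_map_of_mem _ hx
            rw [show (Y.ideal D).map (algebraMap A O) = (Y.ideal U).map (algebraMap R O) by
              rw [hres, Ideal.map_map]; exact congrArg (fun h => Ideal.map h (Y.ideal U)) (RingHom.ext hAO),
              hJeq] at h1
            refine Ideal.span_le.2 ?_ h1
            rintro _ (⟨l, rfl⟩ | ⟨l, rfl⟩)
            · refine (Ideal.mul_unit_mem_iff_mem _ (hwv l)).1 ?_
              rw [← hxwv, ← hAO]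
              exact Ideal.mem_map_of_mem _ (Ideal.subset_span (Or.inl ⟨l, by simp [FA, F]⟩))
            · refine (Ideal.mul_unit_mem_iff_mem _ (hwg l)).1 ?_
              rw [← hxwg, ← hAO]
              exact Ideal.mem_map_of_mem _ (Ideal.subset_span (Or.inr ⟨l, rfl⟩))
          obtain ⟨t, ht, htx⟩ := (IsLocalization.algebraMap_mem_map_algebraMap_iff pD.primeCompl O _ x).1 hx'
          exact ⟨t, ht, htx⟩
  · have hcom := SDiv28.isIso_off_center hb
    have : IsOpenImmersion ((b ⁻¹ᵁ W.support.compl).ι ≫ b) := by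
      rw [← morphismRestrict_ι]; infer_instance
    have hbs : IsIso (b.stalkMap (k y)) :=
      Pur21Lib.isIso_stalkMap_of_isOpenImmersion_ι_comp b (b ⁻¹ᵁ W.support.compl) (k y) hzW
    have hb's : IsIso (b'.stalkMap y) := by
      have hy0 : y0 ∈ (W.comap ι).support.compl := by
        intro h
        rw [Scheme.IdealSheafData.support_comap] at h
        refine hzW ?_
        show b (k y) ∈ W.support
        rw [← hz0]
        exact h
      have hcom' := SDiv28.isIso_off_center hb'
      have : IsOpenImmersion ((b' ⁻¹ᵁ (W.comap ι).support.compl).ι ≫ b') := by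
        rw [← morphismRestrict_ι]; infer_instance
      exact Pur21Lib.isIso_stalkMap_of_isOpenImmersion_ι_comp b' (b' ⁻¹ᵁ (W.comap ι).support.compl) y hy0
    obtain ⟨_, ⟨U, hU, rfl⟩, hzU, -⟩ :=
      Z.isBasis_affineOpens.exists_subset_of_mem_open (Set.mem_univ z) isOpen_univ
    have key : ∀ (g : Y' ⟶ Z) (_ : g = b' ≫ ι) (_ : g = k ≫ b),
        CInt.IsRegularIdeal (RingHom.ker (g.stalkMap y).hom) := by
      rintro g rfl -
      rw [Scheme.Hom.stalkMap_comp, CommRingCat.hom_comp,
        RingHom.ker_comp_of_injective _ (ConcreteCategory.bijective_of_isIso (b'.stalkMap y)).1]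
      have hzU' : ι (b' y) ∈ U := hz0 ▸ hzU
      rw [CIImmersion.ker_stalkMap_eq ι (b' y) hU hzU', Scheme.IdealSheafData.ker_subschemeι_app (U := ⟨U, hU⟩)]
      exact isRegularIdeal_stalk Y hY ⟨U, hU⟩ hzU' (hz0 ▸ hzY)
    have h1 := key (k ≫ b) hk rfl
    rw [Scheme.Hom.stalkMap_comp, CommRingCat.hom_comp, ← RingHom.comap_ker] at h1
    have hbij := ConcreteCategory.bijective_of_isIso (b.stalkMap (k y))
    let e := RingEquiv.ofBijective (b.stalkMap (k y)).hom hbij
    have h2 := CIPresentation.isRegularIdeal_map_equiv e h1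
    rwa [show Ideal.map e.toRingHom (Ideal.comap (b.stalkMap (k y)).hom (RingHom.ker (k.stalkMap y).hom)) =
      RingHom.ker (k.stalkMap y).hom from Ideal.map_comap_of_surjective _ hbij.2 _] at h2

theorem isLocallyNoetherian_blowUp [IsLocallyNoetherian Z] {W : Z.IdealSheafData} {b : Z' ⟶ Z}
    (hb : BlowUp.IsBlowUp b W) : IsLocallyNoetherian Z' := by
  have hW : BlowUp.IsFiniteTypeIdeal W := fun U => by
    have := IsLocallyNoetherian.component_noetherian U
    exact (IsNoetherian.noetherian (W.ideal U))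
  obtain ⟨e, he⟩ := BlowUpLib.exists_iso_of_isBlowUp hb BlowUpLib.isBlowUp_blowUpMap
  have := BlowUpLib.locallyOfFiniteType_blowUpMap hW
  have : LocallyOfFiniteType b := by rw [← he]; infer_instance
  exact LocallyOfFiniteType.isLocallyNoetherian b

theorem isRegularImmersion [IsLocallyNoetherian Z] (W Y : Z.IdealSheafData)
    (hW : RegImm.IsRegularIdeal RegImm.Kind.regular W) (hY : RegImm.IsRegularIdeal RegImm.Kind.regular Y)
    (hXY : RegImm.IsRegularIdeal RegImm.Kind.regular (W.comap Y.subschemeι))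
    (hXW : RegImm.IsRegularIdeal RegImm.Kind.regular (Y.comap W.subschemeι))
    (b : Z' ⟶ Z) (hb : BlowUp.IsBlowUp b W)
    (b' : Y' ⟶ Y.subscheme) (hb' : BlowUp.IsBlowUp b' (W.comap Y.subschemeι))
    (k : Y' ⟶ Z') (hk : k ≫ b = b' ≫ Y.subschemeι) :
    RegImm.IsRegularImmersion RegImm.Kind.regular k := by
  have := isLocallyNoetherian_blowUp hb
  obtain ⟨hcl, -, -⟩ := BlowUpLib.strict_image W Y b hb b' hb' k hk
  refine ⟨inferInstance, fun y => ?_⟩
  obtain ⟨V, hV, h⟩ := (RegImmLocal.nhd_iff k y).2 (main W Y hW hY hXY hXW b hb b' hb' k hk y)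
  obtain ⟨U, hU, hyU, rs, hrs, hker⟩ := CIImmersion.exists_regular_chart k y V hV h
  exact ⟨⟨U, hU⟩, hyU, IsZariskiLocalAtTarget.restrict hcl U, rs, hrs, hker⟩

end Groth.Agent.RegStrict13
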